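import Cfsg.Agent.H807.El.Mathieu
import Cfsg.Agent.Leech.FrameAux
import Cfsg.Agent.S0397
import Cfsg.Agent.S0399
import Cfsg.Agent.S0402
import Cfsg.Agent.S0403
import Cfsg.Agent.S0404
import Cfsg.Agent.S0405
import Cfsg.Agent.Prune
set_option linter.all false
prune_inst 0x7f00000000000000000000000000000000000000000000000000000000000000000000000000000000000000000000000000000000000000000000000000000000000000000000000000000000000000003fffffffffffffffffffffffffffbeffbdffffffff
open scoped Cfsg.Agent.FastGrp

/-!
# S3403, part B: the Conway groups, `McL` and `HS`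
-/

set_option autoImplicit false
set_option linter.style.haveILetI false

open scoped Pointwise

namespace Cfsg.Agent.H807.El

open Cfsg Cfsg.Agent.H43.Eleven Subgroup Cfsg.Agent.Leech.FrameAux

universe u

/-! ### `M₂₄` in `Co₀` -/

theorem exists_F : ∃ F : M24 →* Co0, ∀ (s : M24) (v : leechLattice) (i : GolayPt),
    ((F s • v : leechLattice) : GolayPt → ℤ) i = (v : GolayPt → ℤ) ((s : Equiv.Perm GolayPt).symm i) := by
  choose f hf using fun s : M24 => exists_co0_of_perm (s : Equiv.Perm GolayPt) s.2
  refine ⟨{ toFun := f, map_one' := ?_, map_mul' := ?_ }, hf⟩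
  · apply co0_ext
    intro v
    funext i
    rw [hf, one_smul]
    rfl
  · intro s t
    apply co0_ext
    intro v
    funext i
    rw [hf, mul_smul, hf, hf]
    rfl

theorem co0_smul_add (g : Co0) (x y : leechLattice) : g • (x + y) = g • x + g • y := g.2.1 x y

theorem co0_smul_neg (g : Co0) (x : leechLattice) : g • (-x) = -(g • x) := by
  have h0 : g • (0 : leechLattice) = 0 := by
    have h := co0_smul_add g 0 0
    rw [add_zero] at h
    exact (left_eq_add.1 h)
  have h := co0_smul_add g x (-x)
  rw [add_neg_cancel, h0] at h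
  exact (neg_eq_of_add_eq_zero_right h.symm).symm

/-- the stabilizer in `Co₀` as a subgroup of the permutation group -/
theorem map_stab (v : leechLattice) : (MulAction.stabilizer Co0 v).map Co0.subtype =
    Co0 ⊓ MulAction.stabilizer (Equiv.Perm leechLattice) v := by
  ext g
  constructor
  · rintro ⟨h, hh, rfl⟩
    exact ⟨h.2, hh⟩
  · rintro ⟨h1, h2⟩
    exact ⟨⟨g, h1⟩, h2, rfl⟩

theorem map_stab_two (v w : leechLattice) : (MulAction.stabilizer Co0 v ⊓ MulAction.stabilizer Co0 w).map Co0.subtype =
    Co0 ⊓ MulAction.stabilizer (Equiv.Perm leechLattice) v ⊓ MulAction.stabilizer (Equiv.Perm leechLattice) w := by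
  ext g
  constructor
  · rintro ⟨h, hh, rfl⟩
    exact ⟨⟨h.2, hh.1⟩, hh.2⟩
  · rintro ⟨⟨h1, h2⟩, h3⟩
    exact ⟨⟨g, h1⟩, ⟨h2, h3⟩, rfl⟩

theorem card_map_sub (K : Subgroup Co0) : Nat.card (K.map Co0.subtype) = Nat.card K :=
  Subgroup.card_map_of_injective Co0.subtype_injective

/-! ### the orders -/

theorem card_Co2 : Nat.card Spor.Co2 = 42305421312000 := by
  have h : Spor.Co2 = (MulAction.stabilizer Co0 Spor.leechU).map Co0.subtype := (map_stab _).symm
  rw [h, card_map_sub]
  exact (Cfsg.Agent.S0402.result Spor.leechU (by decide +kernel)).2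

theorem card_Co3 : Nat.card Spor.Co3 = 495766656000 := by
  have h : Spor.Co3 = (MulAction.stabilizer Co0 Spor.leechV).map Co0.subtype := (map_stab _).symm
  rw [h, card_map_sub]
  exact (Cfsg.Agent.S0403.result Spor.leechV (by decide +kernel)).2

/-- `u + v + w = 0` : two of the stabilizers determine the third -/
theorem stab_neg_add (u v : leechLattice) : MulAction.stabilizer Co0 u ⊓ MulAction.stabilizer Co0 (-(u + v)) =
    MulAction.stabilizer Co0 u ⊓ MulAction.stabilizer Co0 v := by
  ext g
  constructor
  · rintro ⟨h1, h2⟩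
    refine ⟨h1, ?_⟩
    have h1' : g • u = u := h1
    have h2' : g • (-(u + v)) = -(u + v) := h2
    rw [co0_smul_neg, co0_smul_add, h1', neg_inj, add_right_inj] at h2'
    exact h2'
  · rintro ⟨h1, h2⟩
    refine ⟨h1, ?_⟩
    have h1' : g • u = u := h1
    have h2' : g • v = v := h2
    show g • (-(u + v)) = -(u + v)
    rw [co0_smul_neg, co0_smul_add, h1', h2']

theorem card_McL : Nat.card Spor.McL = 898128000 := by
  have h : Spor.McL = (MulAction.stabilizer Co0 Spor.leechU ⊓ MulAction.stabilizer Co0 Spor.leechV).map Co0.subtype := by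
    rw [inf_comm, map_stab_two]
    rfl
  rw [h, card_map_sub, ← stab_neg_add]
  exact (Cfsg.Agent.S0404.result Spor.leechU (-(Spor.leechU + Spor.leechV)) (by decide +kernel) (by decide +kernel)
    (by decide +kernel)).2

theorem card_HS : Nat.card Spor.HS = 44352000 := by
  have h : Spor.HS = (MulAction.stabilizer Co0 Spor.leechV ⊓ MulAction.stabilizer Co0 Spor.leechU').map Co0.subtype := by
    rw [map_stab_two]
    rfl
  rw [h, card_map_sub, ← stab_neg_add]
  exact (Cfsg.Agent.S0405.result Spor.leechV (-(Spor.leechV + Spor.leechU')) (by decide +kernel) (by decide +kernel)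
    (by decide +kernel)).2

theorem card_Co1 : Nat.card Spor.Co1 = 4157776806543360000 := Cfsg.Agent.S0399.result.2

instance : Finite Spor.Co2 := finite_of_card card_Co2 (by norm_num)
instance : Finite Spor.Co3 := finite_of_card card_Co3 (by norm_num)
instance : Finite Spor.McL := finite_of_card card_McL (by norm_num)
instance : Finite Spor.HS := finite_of_card card_HS (by norm_num)
instance : Finite Spor.Co1 := finite_of_card card_Co1 (by norm_num)

/-! ### `M₂₂` in `Co₀` -/

/-- `-5` at `j`, `-1` elsewhere -/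
def vecW (j : GolayPt) : GolayPt → ℤ := fun p => if p = j then -5 else -1

theorem vecW_mem (j : GolayPt) : vecW j ∈ leechSet :=
  Spor.mem_leechSet_of_const_mod_four (vecW j) 1 (-1) (by decide) (by revert j; decide +kernel)
    (by revert j; decide +kernel)

theorem F_injective (F : M24 →* Co0) (hF : ∀ (s : M24) (v : leechLattice) (i : GolayPt),
    ((F s • v : leechLattice) : GolayPt → ℤ) i = (v : GolayPt → ℤ) ((s : Equiv.Perm GolayPt).symm i)) :
    Function.Injective F := by
  rw [injective_iff_map_eq_one]
  intro s hs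
  apply Subtype.ext
  apply Equiv.ext
  intro i
  have h1 := hF s ⟨vecW i, AddSubgroup.subset_closure (vecW_mem i)⟩ i
  rw [hs, one_smul] at h1
  have h2 : vecW i i = vecW i ((s : Equiv.Perm GolayPt).symm i) := h1
  have h3 : (s : Equiv.Perm GolayPt).symm i = i := by
    by_contra hne
    simp only [vecW, if_neg hne, if_true] at h2
    omega
  show (s : Equiv.Perm GolayPt) i = i
  rw [Equiv.symm_apply_eq] at h3
  exact h3.symm

theorem M22_fix {s : Equiv.Perm GolayPt} (hs : s ∈ Spor.M22) : s.symm none = none ∧ s.symm (some 0) = some 0 := by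
  obtain ⟨⟨-, h1⟩, h2⟩ := hs
  have h1' : s none = none := h1
  have h2' : s (some 0) = some 0 := h2
  exact ⟨by rw [Equiv.symm_apply_eq, h1'], by rw [Equiv.symm_apply_eq, h2']⟩

/-- `M₂₂` fixes the three vectors -/
theorem exists_F22 : ∃ F : Spor.M22 →* Co0, Function.Injective F ∧ ∀ s, F s • Spor.leechU = Spor.leechU ∧
    F s • Spor.leechV = Spor.leechV ∧ F s • Spor.leechU' = Spor.leechU' := by
  obtain ⟨F, hF⟩ := exists_F
  have hle : Spor.M22 ≤ M24 := inf_le_left.trans inf_le_left
  have key : ∀ s : Spor.M22, (F (inclusion hle s)) • Spor.leechU = Spor.leechU ∧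
      (F (inclusion hle s)) • Spor.leechV = Spor.leechV ∧ (F (inclusion hle s)) • Spor.leechU' = Spor.leechU' := by
    intro s
    obtain ⟨h1, h2⟩ := M22_fix s.2
    have h3 : ∀ i : GolayPt, (s : Equiv.Perm GolayPt).symm i = none ↔ i = none := by
      intro i
      constructor
      · intro h
        apply (s : Equiv.Perm GolayPt).symm.injective
        rw [h, h1]
      · rintro rfl
        exact h1
    have h4 : ∀ i : GolayPt, (s : Equiv.Perm GolayPt).symm i = some 0 ↔ i = some 0 := by
      intro i
      constructor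
      · intro h
        apply (s : Equiv.Perm GolayPt).symm.injective
        rw [h, h2]
      · rintro rfl
        exact h2
    refine ⟨?_, ?_, ?_⟩
    · apply Subtype.ext
      funext i
      rw [hF]
      show Spor.vecU ((s : Equiv.Perm GolayPt).symm i) = Spor.vecU i
      simp only [Spor.vecU, h3, h4]
    · apply Subtype.ext
      funext i
      rw [hF]
      show Spor.vecV ((s : Equiv.Perm GolayPt).symm i) = Spor.vecV i
      simp only [Spor.vecV, h3]
    · apply Subtype.ext
      funext i
      rw [hF]
      show Spor.vecU' ((s : Equiv.Perm GolayPt).symm i) = Spor.vecU' i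
      simp only [Spor.vecU', h3, h4]
  refine ⟨F.comp (inclusion hle), ?_, key⟩
  exact (F_injective F hF).comp (inclusion_injective hle)

/-- a group of order prime to `11²`, not `443520`, with an injective homomorphism `M₂₂ → Co₀` into it -/
theorem row_of_le {K : Subgroup (Equiv.Perm leechLattice)} [Finite K] (h2 : ¬ 11 ^ 2 ∣ Nat.card K)
    (hX : Nat.card K ≠ 443520) {F : Spor.M22 →* Co0} (hF : Function.Injective F)
    (h : ∀ s, (F s : Equiv.Perm leechLattice) ∈ K) : Row K := by
  refine row_of_M22 h2 hX ((Co0.subtype.comp F).codRestrict K h) ?_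
  intro s t hst
  apply hF
  have hst' := congrArg (fun x : K => (x : Equiv.Perm leechLattice)) hst
  exact Subtype.ext hst'

theorem row_Co2 {X : Type u} [Group X] (h : Spor.IsoCo2 X) : Row X := by
  obtain ⟨e⟩ := h
  obtain ⟨F, hF, hs⟩ := exists_F22
  exact row_congr e (row_of_le (by rw [card_Co2]; norm_num) (by rw [card_Co2]; norm_num) hF
    fun s => ⟨(F s).2, (hs s).1⟩)

theorem row_Co3 {X : Type u} [Group X] (h : Spor.IsoCo3 X) : Row X := by
  obtain ⟨e⟩ := h
  obtain ⟨F, hF, hs⟩ := exists_F22
  exact row_congr e (row_of_le (by rw [card_Co3]; norm_num) (by rw [card_Co3]; norm_num) hF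
    fun s => ⟨(F s).2, (hs s).2.1⟩)

theorem row_McL {X : Type u} [Group X] (h : Spor.IsoMcL X) : Row X := by
  obtain ⟨e⟩ := h
  obtain ⟨F, hF, hs⟩ := exists_F22
  exact row_congr e (row_of_le (by rw [card_McL]; norm_num) (by rw [card_McL]; norm_num) hF
    fun s => ⟨⟨(F s).2, (hs s).2.1⟩, (hs s).1⟩)

theorem row_HS {X : Type u} [Group X] (h : Spor.IsoHS X) : Row X := by
  obtain ⟨e⟩ := h
  obtain ⟨F, hF, hs⟩ := exists_F22
  exact row_congr e (row_of_le (by rw [card_HS]; norm_num) (by rw [card_HS]; norm_num) hF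
    fun s => ⟨⟨(F s).2, (hs s).2.1⟩, (hs s).2.2⟩)

theorem row_Co1 {X : Type u} [Group X] (h : Spor.IsoCo1 X) : Row X := by
  obtain ⟨e⟩ := h
  obtain ⟨F, hF, -⟩ := exists_F22
  refine row_congr e (row_of_M22 (by rw [card_Co1]; norm_num) (by rw [card_Co1]; norm_num)
    ((QuotientGroup.mk' (center Co0)).comp F) ?_)
  rw [← MonoidHom.ker_eq_bot_iff]
  rcases (inferInstance : ((QuotientGroup.mk' (center Co0)).comp F).ker.Normal).eq_bot_or_eq_top with h | h
  · exact h
  · exfalso
    obtain ⟨a, b, hab⟩ := ncomm_M22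
    apply hab
    apply hF
    have h5 : a ∈ ((QuotientGroup.mk' (center Co0)).comp F).ker := h ▸ mem_top a
    rw [MonoidHom.mem_ker, MonoidHom.comp_apply, QuotientGroup.mk'_apply, QuotientGroup.eq_one_iff,
      mem_center_iff] at h5
    rw [map_mul, map_mul]
    exact (h5 (F b)).symm

end Cfsg.Agent.H807.El

private theorem dce_ae5be1c6da91 : _root_.True := by
  try have : _root_.True := by simp only [_root_.Cfsg.Agent.H807.El.vecW.eq_1]
  try have : _root_.True := by simp only [_root_.Cfsg.Spor.vecV.eq_1]
  exact _root_.True.intro
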